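import Groth.Prelude.Def_Pi1
import Groth.Agent.ResolveSurf.ModificationVanish
import Groth.Agent.Limits.NormalBirational
import Groth.Agent.HensPair.SteinNormalPoint
import Groth.Agent.CohFin.ProjFinite
import Groth.Agent.EulerDeg.DimOne

/-!
# A morphism between modifications of a normal surface singularity
-/

set_option autoImplicit false
set_option backward.isDefEq.respectTransparency.types false
set_option linter.style.haveILetI false

universe u

open CategoryTheory CategoryTheory.Limits AlgebraicGeometry TopologicalSpace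

namespace Groth.ResModR1

/-- The exceptional set of a morphism. -/
def exc {X' X : Scheme.{u}} (g : X' ⟶ X) : Set X :=
  {x | ¬ ∃ V : X.Opens, x ∈ V ∧ IsIso (g ∣_ V)}

theorem isClosed_exc {X' X : Scheme.{u}} (g : X' ⟶ X) : IsClosed (exc g) := by
  rw [← isOpen_compl_iff, isOpen_iff_forall_mem_open]
  intro x hx
  obtain ⟨V, hxV, hV⟩ : ∃ V : X.Opens, x ∈ V ∧ IsIso (g ∣_ V) := not_not.1 hx
  exact ⟨V, fun y hy h => h ⟨V, hy, hV⟩, V.2, hxV⟩

/-- Generic points correspond along a morphism which is an isomorphism over a nonempty open. -/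
theorem generic_of_isIso_restrict {X' X : Scheme.{u}} [IsIntegral X'] [IsIntegral X] (g : X' ⟶ X)
    (V : X.Opens) (hne : (V : Set X).Nonempty) [IsIso (g ∣_ V)] :
    g (genericPoint X') = genericPoint X ∧ IsIso (g.stalkMap (genericPoint X')) := by
  have hξ : genericPoint X ∈ V :=
    ((genericPoint_spec X).mem_open_set_iff V.2).2 (by simpa using hne)
  obtain ⟨⟨w, hwV⟩, hw⟩ := (g ∣_ V).homeomorph.surjective ⟨genericPoint X, hξ⟩
  have hgw : g w = genericPoint X :=
    (morphismRestrict_base_coe g V ⟨w, hwV⟩).symm.trans (congrArg Subtype.val hw)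
  have hgen : g (genericPoint X') = genericPoint X := by
    refine (Specializes.antisymm ?_ (genericPoint_specializes _)).eq
    rw [← hgw]
    exact (genericPoint_specializes w).map g.continuous
  have hmem : genericPoint X' ∈ g ⁻¹ᵁ V := show g (genericPoint X') ∈ V by rw [hgen]; exact hξ
  exact ⟨hgen, ((MorphismProperty.isomorphisms CommRingCat).arrow_mk_iso_iff
    (morphismRestrictStalkMap g V ⟨genericPoint X', hmem⟩)).1 (inferInstanceAs (IsIso _))⟩

theorem not_isClosed_of_image {X' X : Scheme.{u}} (g : X' ⟶ X) [UniversallyClosed g] {x' : X'}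
    (h : ¬ IsClosed ({g x'} : Set X)) : ¬ IsClosed ({x'} : Set X') := fun h' => h <| by
  simpa using g.isClosedMap _ h'

theorem finite_maximal_points (T : Type u) [TopologicalSpace T] [NoetherianSpace T] [QuasiSober T]
    [T0Space T] : {t : T | ∀ y, y ⤳ t → y = t}.Finite := by
  classical
  refine ((NoetherianSpace.finite_irreducibleComponents (α := T)).image fun C : Set T =>
    if h : ∃ t, IsGenericPoint t C then some h.choose else none).preimage
      (Option.some_injective T).injOn |>.subset fun t ht => ?_
  refine Set.mem_preimage.2 ⟨irreducibleComponent t, irreducibleComponent_mem_irreducibleComponents t, ?_⟩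
  obtain ⟨η, hη⟩ := QuasiSober.sober (isIrreducible_irreducibleComponent (x := t))
    isClosed_irreducibleComponent
  obtain rfl := ht η (hη.specializes mem_irreducibleComponent)
  have h : ∃ t', IsGenericPoint t' (irreducibleComponent η) := ⟨η, hη⟩
  change (if h : ∃ t', IsGenericPoint t' (irreducibleComponent η) then some h.choose else none) = some η
  rw [dif_pos h]
  exact congrArg some (h.choose_spec.eq hη)

theorem eq_of_specializes_of_dim_le_zero {T : Type u} [TopologicalSpace T] [T0Space T]
    (hT : topologicalKrullDim T ≤ ((0 : ℕ) : WithBot ℕ∞)) {y t : T} (h : y ⤳ t) : y = t := by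
  by_contra hne
  let c : T → IrreducibleCloseds T := fun a =>
    ⟨closure {a}, isIrreducible_singleton.closure, isClosed_closure⟩
  have hlt : c t < c y := by
    refine lt_of_le_of_ne (show closure ({t} : Set T) ⊆ closure {y} from
      closure_minimal (Set.singleton_subset_iff.mpr h.mem_closure) isClosed_closure) fun e => hne ?_
    have e' : closure ({t} : Set T) = closure {y} := congrArg (fun W : IrreducibleCloseds T => (W : Set T)) e
    exact (h.antisymm (specializes_iff_mem_closure.2 (e' ▸ subset_closure rfl))).eq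
  have h1 : ((1 : ℕ) : WithBot ℕ∞) ≤ topologicalKrullDim T :=
    Order.LTSeries.length_le_krullDim ⟨1, ![c t, c y], fun i => by fin_cases i; exact hlt⟩
  exact absurd (h1.trans hT) (by decide)

theorem isIso_restrict_le {X' X : Scheme.{u}} (g : X' ⟶ X) {W U : X.Opens} (h : W ≤ U)
    [IsIso (g ∣_ U)] : IsIso (g ∣_ W) := by
  have hsq : IsPullback (X'.homOfLE (g.preimage_mono h)) (g ∣_ W) (g ∣_ U) (X.homOfLE h) := by
    refine IsPullback.of_right ?_ ?_ (isPullback_morphismRestrict g U).flip
    · rw [X'.homOfLE_ι, X.homOfLE_ι]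
      exact (isPullback_morphismRestrict g W).flip
    · rw [← cancel_mono U.ι]
      simp
  exact hsq.isIso_snd_of_isIso

variable {A : Type u} [CommRing A] [IsDomain A] [IsLocalRing A] [IsNoetherianRing A]
  {X X' : Scheme.{u}} [IsIntegral X] [IsIntegral X']
  {p : X ⟶ Spec (CommRingCat.of A)} {p' : X' ⟶ Spec (CommRingCat.of A)}
  [IsProper p] [IsProper p'] {g : X' ⟶ X}

omit [IsLocalRing A] [IsNoetherianRing A] [IsProper p] [IsProper p'] in
/-- A morphism of modifications is birational. -/
theorem exists_isIso_restrict (hg : g ≫ p = p')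
    {U : (Spec (CommRingCat.of A)).Opens} (hne : (U : Set (Spec (CommRingCat.of A))).Nonempty)
    (hU : IsIso (p ∣_ U)) {U' : (Spec (CommRingCat.of A)).Opens}
    (hne' : (U' : Set (Spec (CommRingCat.of A))).Nonempty) (hU' : IsIso (p' ∣_ U')) :
    ∃ V : X.Opens, (V : Set X).Nonempty ∧ IsIso (g ∣_ V) := by
  subst hg
  have hW : ((U ⊓ U' : (Spec (CommRingCat.of A)).Opens) : Set (Spec (CommRingCat.of A))).Nonempty :=
    nonempty_preirreducible_inter U.2 U'.2 hne hne'
  haveI h1 : IsIso (p ∣_ (U ⊓ U')) := isIso_restrict_le p inf_le_left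
  haveI h2 : IsIso ((g ≫ p) ∣_ (U ⊓ U')) := isIso_restrict_le (g ≫ p) inf_le_right
  refine ⟨p ⁻¹ᵁ (U ⊓ U'), ResolveSurf.ModVanish.preimage_nonempty p hW h1, ?_⟩
  rw [morphismRestrict_comp] at h2
  exact @IsIso.of_isIso_comp_right _ _ _ _ _ _ _ h1 h2

omit [IsDomain A] in
/-- The exceptional set of a morphism of modifications is a finite set of closed points. -/
theorem exc_finite (hdim : ringKrullDim A = 2) (hg : g ≫ p = p') (hn : Pi1.IsNormalScheme X)
    {U' : (Spec (CommRingCat.of A)).Opens}
    (hne' : (U' : Set (Spec (CommRingCat.of A))).Nonempty) (hU' : IsIso (p' ∣_ U'))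
    {V : X.Opens} (hV : (V : Set X).Nonempty) [IsIso (g ∣_ V)] :
    (exc g).Finite ∧ ∀ x ∈ exc g, IsClosed ({x} : Set X) := by
  subst hg
  haveI : IsProper g := MorphismProperty.of_postcomp (W := @IsProper) (W' := @IsSeparated) g p
    inferInstance ‹IsProper (g ≫ p)›
  haveI : IsLocallyNoetherian X := LocallyOfFiniteType.isLocallyNoetherian p
  haveI : IsLocallyNoetherian X' := LocallyOfFiniteType.isLocallyNoetherian (g ≫ p)
  obtain ⟨hgen, hbir⟩ := generic_of_isIso_restrict g V hV
  have hd := ResolveSurf.ModVanish.fiber_dim_le_one (g ≫ p) hdim.le U'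
    (ResolveSurf.ModVanish.preimage_nonempty (g ≫ p) hne' hU') hU'
  have hclosed : ∀ x ∈ exc g, IsClosed ({x} : Set X) := by
    intro x hx
    by_contra hnc
    let P := p x
    let F := (g ≫ p).fiber P
    haveI : LocallyOfFiniteType ((g ≫ p).fiberToSpecResidueField P) :=
      MorphismProperty.pullback_snd (g ≫ p) _ inferInstance
    haveI : IsLocallyNoetherian F :=
      LocallyOfFiniteType.isLocallyNoetherian ((g ≫ p).fiberToSpecResidueField P)
    haveI : CompactSpace F := QuasiCompact.compactSpace_of_compactSpace ((g ≫ p).fiberToSpecResidueField P)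
    haveI : IsNoetherian F := ⟨⟩
    have hmax : ∀ t : F, g ((g ≫ p).fiberι P t) = x → ∀ y, y ⤳ t → y = t := by
      intro t ht
      have hnt : ¬ IsClosed ({(g ≫ p).fiberι P t} : Set X') :=
        not_isClosed_of_image g (by rwa [ht])
      by_cases hP : P = IsLocalRing.closedPoint A
      · refine fun y hy => EulerDeg.eq_of_specializes_of_not_isClosed (X := TopCat.of F) (hd P)
          (fun hc => hnt ?_) hy
        have hcl : Topology.IsClosedEmbedding ((g ≫ p).fiberι P) := by
          refine ⟨((g ≫ p).fiberι P).isEmbedding, ?_⟩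
          rw [Scheme.Hom.range_fiberι, hP]
          exact (IsLocalRing.isClosed_singleton_closedPoint A).preimage (g ≫ p).continuous
        simpa using hcl.isClosedMap _ hc
      · have hd0 : topologicalKrullDim F ≤ ((0 : ℕ) : WithBot ℕ∞) := by
          refine ResPropLib.fiber_dim_le (g ≫ p) U' (((g ≫ p) ⁻¹ᵁ U').2.dense
            (ResolveSurf.ModVanish.preimage_nonempty (g ≫ p) hne' hU'))
            (fun y hy => ResPropLib.finite_fiber_of_isIso (g ≫ p) U' hU' y hy) P 0 ?_
          let c₀ : Spec (CommRingCat.of A) := IsLocalRing.closedPoint A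
          have hlt : c₀ < P := lt_iff_le_not_ge.2
            ⟨Scheme.le_iff_specializes.2 (IsLocalRing.specializes_closedPoint P), fun h => hP
              ((IsLocalRing.specializes_closedPoint P).antisymm (Scheme.le_iff_specializes.1 h)).eq⟩
          have h2 : Order.coheight c₀ ≤ (2 : ℕ∞) := by
            have h := idealHeight_eq_coheight (CommRingCat.of A) c₀
            have h1 : ((c₀.asIdeal.height : ℕ∞) : WithBot ℕ∞) ≤ 2 :=
              (Ideal.height_le_ringKrullDim_of_ne_top c₀.isPrime.ne_top).trans hdim.le
            rw [h] at h1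
            exact WithBot.coe_le_coe.1 h1
          have h3 : Order.coheight P + 1 ≤ (2 : ℕ∞) := (Order.coheight_add_one_le hlt).trans h2
          refine (ENat.add_le_add_iff_right (ENat.coe_ne_top 1)).1 (h3.trans ?_)
          simp; rfl
        exact fun y hy => eq_of_specializes_of_dim_le_zero hd0 hy
    have hfin : (g ⁻¹' {x}).Finite := by
      refine ((finite_maximal_points F).image ((g ≫ p).fiberι P)).subset fun x' hx' => ?_
      obtain ⟨t, rfl⟩ : x' ∈ Set.range ((g ≫ p).fiberι P) := by
        rw [Scheme.Hom.range_fiberι]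
        exact congrArg p hx'
      exact ⟨t, hmax t hx', rfl⟩
    haveI : Finite (g.fiber x) := by
      haveI := hfin.to_subtype
      exact Finite.of_equiv _ (g.fiberHomeo x).toEquiv.symm
    haveI : LocallyOfFiniteType (g.fiberToSpecResidueField x) :=
      MorphismProperty.pullback_snd g _ inferInstance
    haveI : JacobsonSpace (g.fiber x) :=
      LocallyOfFiniteType.jacobsonSpace (g.fiberToSpecResidueField x)
    rcases isEmpty_or_nonempty (g.fiber x) with he | ⟨⟨t⟩⟩
    · have hVr : (V : Set X) ⊆ Set.range g := fun v hv => by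
        obtain ⟨w, hw⟩ := (g ∣_ V).homeomorph.surjective ⟨v, hv⟩
        exact ⟨w.1, (morphismRestrict_base_coe g V w).symm.trans (congrArg Subtype.val hw)⟩
      obtain ⟨x', hx'⟩ : x ∈ Set.range g :=
        (closure_minimal hVr g.isClosedMap.isClosed_range) (V.2.dense hV x)
      exact he.false ((g.fiberHomeo x).symm ⟨x', hx'⟩)
    · exact hx (Limits.exists_isIso_of_isolated_normal g hgen hbir x (hn x).2 t (isOpen_discrete _))
  haveI : CompactSpace X := QuasiCompact.compactSpace_of_compactSpace p
  haveI : IsNoetherian X := ⟨⟩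
  haveI hN : NoetherianSpace X := inferInstance
  refine ⟨(@EulerDeg.finite_and_isClosed_of_closed_points X.toTopCat hN (inferInstanceAs (QuasiSober X))
    Set.univ (exc g)
    isOpen_univ (Set.subset_univ _) (by rw [Set.inter_univ, (isClosed_exc g).closure_eq]) hclosed).1, hclosed⟩

/-- Functions on a normal modification are functions on any modification above it. -/
theorem isIso_app [IsLocallyNoetherian X] [IsProper g] (hn : Pi1.IsNormalScheme X) {V : X.Opens}
    (hV : (V : Set X).Nonempty) [IsIso (g ∣_ V)] (W : X.Opens) : IsIso (g.app W) := by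
  obtain ⟨hgen, hbir⟩ := generic_of_isIso_restrict g V hV
  have hdom : g (genericPoint X') ⤳ genericPoint X := hgen ▸ specializes_rfl
  have hsurj : ∀ z, z ∈ Set.range (CohIII.stalkToFunctionField g (genericPoint X) hdom) := by
    have key : ∀ (ξ : X) (h : g (genericPoint X') ⤳ ξ), g (genericPoint X') = ξ →
        Function.Surjective (CohIII.stalkToFunctionField g ξ h) := by
      rintro _ h rfl z
      obtain ⟨b, rfl⟩ := (ConcreteCategory.bijective_of_isIso (g.stalkMap (genericPoint X'))).2 z
      refine ⟨b, congrArg (g.stalkMap (genericPoint X')) ?_⟩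
      exact congr($(X.presheaf.stalkSpecializes_refl (g (genericPoint X'))) b)
    exact fun z => key _ hdom hgen z
  refine HensPair.isIso_app_of_local g (fun y => ?_) W
  obtain ⟨O, hO, hyO, hiso⟩ := HensPair.exists_affine_isIso_app g CohFin.projFinite hdom
    (fun z _ => hsurj z) y (hn y).2
  exact ⟨O, hyO, fun W' hW' => HensPair.isIso_app_of_le g hO hW'⟩

end Groth.ResModR1
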