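import Groth.Prelude.Def_Curv2
import Groth.Agent.ResModR1.Geometry
import Groth.Agent.CohFin.Acyclic
import Groth.Agent.SiteCohomology.Flasque
import Groth.Agent.SiteCohomology.ModulesInjective
import Groth.Agent.EulerDeg.HLinear
import Groth.Agent.CohBase.RpushAffineLin
import Groth.Agent.CohBase.RelAmpleVanish
import Groth.Agent.Chow.QcohExtend
import Mathlib.RingTheory.Length

/-!
# The exact sequence of low degree for `R¹g_*`, with lengths
-/

set_option autoImplicit false
set_option backward.isDefEq.respectTransparency.types false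
set_option linter.style.haveILetI false

universe u

open CategoryTheory CategoryTheory.Limits AlgebraicGeometry TopologicalSpace Opposite

namespace Groth.ResModR1

open Groth.EulerDeg Groth.PicAux

variable {X' X : Scheme.{u}}

theorem isFlasque_toAb_of_injective (M : X.Modules) [Injective M] :
    TopCat.Sheaf.IsFlasque (X := X.toTopCat) (Coh.toAb M) := by
  refine ⟨fun {U V} i => (AddCommGrpCat.epi_iff_surjective _).2 ?_⟩
  haveI : Injective (C := SheafOfModules X.ringCatSheaf) M := ‹Injective M›
  haveI : Mono i.unop := ⟨fun _ _ _ => Subsingleton.elim _ _⟩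
  exact Groth.SiteCohomology.surjective_map_of_injective_module X.ringCatSheaf M i.unop

theorem subsingleton_HH_push_injective (g : X' ⟶ X) (M : X'.Modules) [Injective M] (n : ℕ) :
    Subsingleton (Coh.HH X ((Scheme.Modules.pushforward g).obj M) (n + 1)) := by
  haveI : TopCat.Sheaf.IsFlasque (X := X.toTopCat)
      (Coh.toAb ((Scheme.Modules.pushforward g).obj M)) := by
    haveI := isFlasque_toAb_of_injective M
    exact TopCat.Sheaf.IsFlasque.pushforward_isFlasque (X := X'.toTopCat) (Coh.toAb M) g.base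
  exact Groth.SiteCohomology.subsingleton_H_succ_of_flasque (X := X.toTopCat) _ n

section Linear

variable (A : Type u) [CommRing A] [X.Over (Spec (CommRingCat.of A))]
  [X'.Over (Spec (CommRingCat.of A))] (g : X' ⟶ X)
  (hg : g ≫ (X ↘ Spec (CommRingCat.of A)) = X' ↘ Spec (CommRingCat.of A))

/-- Global sections, as `H⁰`. -/
noncomputable def sec₀ (M : X.Modules) : Coh.HH X M 0 ≃+ Γ(M, (⊤ : X.Opens)) :=
  Sheaf.H.equiv₀ (Coh.toAb M) (isTerminalTop : IsTerminal (⊤ : Opens X))

theorem sec₀_smul (M : X.Modules) (a : A) (x : Coh.HH X M 0) :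
    sec₀ M (a • x) = (Coh.smulAb M (Coh.toGlobal (X ↘ Spec (CommRingCat.of A)) a)).hom.app (op ⊤)
      (sec₀ M x) := by
  rw [EulerDeg.smul_def]
  exact (Sheaf.H.equiv₀_naturality (hT := (isTerminalTop : IsTerminal (⊤ : Opens X)))
    (f := Coh.smulAb M (Coh.toGlobal (X ↘ Spec (CommRingCat.of A)) a)) x).symm

theorem sec₀_natural {M N : X.Modules} (φ : M ⟶ N) (x : Coh.HH X M 0) :
    sec₀ N (hMap A φ 0 x) = φ.app ⊤ (sec₀ M x) :=
  (Sheaf.H.equiv₀_naturality (hT := (isTerminalTop : IsTerminal (⊤ : Opens X))) (f := abMap φ) x).symm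

include hg in
/-- `H⁰` of a direct image. -/
noncomputable def push₀ (M : X'.Modules) :
    Coh.HH X ((Scheme.Modules.pushforward g).obj M) 0 ≃ₗ[A] Coh.HH X' M 0 :=
  { (sec₀ ((Scheme.Modules.pushforward g).obj M)).trans (sec₀ M).symm with
    map_smul' := fun a x => by
      refine (sec₀ M).injective ?_
      change sec₀ M ((sec₀ M).symm (sec₀ ((Scheme.Modules.pushforward g).obj M) (a • x))) =
        sec₀ M (a • (sec₀ M).symm (sec₀ ((Scheme.Modules.pushforward g).obj M) x))
      rw [AddEquiv.apply_symm_apply, sec₀_smul, sec₀_smul, AddEquiv.apply_symm_apply]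
      rw [Coh.smulAb_app, Coh.smulAb_app]
      have key : g.appTop (Coh.resTop X (op ⊤) (Coh.toGlobal (X ↘ Spec (CommRingCat.of A)) a)) =
          Coh.resTop X' (op ⊤) (Coh.toGlobal (X' ↘ Spec (CommRingCat.of A)) a) := by
        have h1 : ∀ (Z : Scheme.{u}) (r : Γ(Z, (⊤ : Z.Opens))), Coh.resTop Z (op ⊤) r = r := fun Z r => by
          change Z.presheaf.map (homOfLE le_top).op r = r
          rw [show (homOfLE (le_top : (⊤ : Z.Opens) ≤ ⊤)).op = 𝟙 _ from rfl, Z.presheaf.map_id]
          rfl
        refine (congrArg g.appTop (h1 X _)).trans (Eq.trans ?_ (h1 X' _).symm)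
        rw [← hg]
        rfl
      exact congrArg (fun r : Γ(X', (⊤ : X'.Opens)) => (show Γ(M, ⊤) from r • (show Γ(M, ⊤) from sec₀ ((Scheme.Modules.pushforward g).obj M) x))) key }

theorem push₀_natural {M N : X'.Modules} (φ : M ⟶ N) (x : Coh.HH X ((Scheme.Modules.pushforward g).obj M) 0) :
    push₀ A g hg N (hMap A ((Scheme.Modules.pushforward g).map φ) 0 x) =
      hMap A φ 0 (push₀ A g hg M x) := by
  refine (sec₀ N).injective ?_
  change sec₀ N ((sec₀ N).symm (sec₀ ((Scheme.Modules.pushforward g).obj N)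
      (hMap A ((Scheme.Modules.pushforward g).map φ) 0 x))) =
    sec₀ N (hMap A φ 0 ((sec₀ M).symm (sec₀ ((Scheme.Modules.pushforward g).obj M) x)))
  rw [AddEquiv.apply_symm_apply, sec₀_natural, sec₀_natural, AddEquiv.apply_symm_apply]
  rfl

/-- The first cohomology as a cokernel, when the middle term is acyclic. -/
theorem nonempty_H1_equiv {S : ShortComplex X.Modules} (hS : S.ShortExact)
    (h1 : Subsingleton (Coh.HH X S.X₂ 1)) :
    Nonempty ((Coh.HH X S.X₃ 0 ⧸ LinearMap.range (hMap A S.g 0)) ≃ₗ[A] Coh.HH X S.X₁ 1) := by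
  have hsurj : Function.Surjective (hDelta A hS 0) := fun x =>
    ((exact_left A hS 0) x).1 (@Subsingleton.elim _ h1 _ _)
  exact ⟨(Submodule.quotEquivOfEq _ _ ((exact_right A hS 0).linearMap_ker_eq).symm).trans
    ((hDelta A hS 0).quotKerEquivOfSurjective hsurj)⟩

/-- Cohomology of a four term sequence `0 → K → E → D → C → 0` with `E` acyclic, in lengths. -/
theorem length_fourTerm {K E D : X.Modules} (f : K ⟶ E) (φ : E ⟶ D) (w : f ≫ φ = 0) [Mono f]
    (hex : (ShortComplex.mk f φ w).Exact) (hE : Subsingleton (Coh.HH X E 1))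
    (hK : Subsingleton (Coh.HH X K 2)) :
    Module.length A (Coh.HH X D 0 ⧸ LinearMap.range (hMap A φ 0)) =
      Module.length A (Coh.HH X K 1) + Module.length A (Coh.HH X (cokernel φ) 0) := by
  let q : D ⟶ cokernel φ := cokernel.π φ
  let S₂ : ShortComplex X.Modules := ShortComplex.mk (kernel.ι q) q (kernel.condition q)
  have hS₂ : S₂.ShortExact := { exact := ShortComplex.exact_of_f_is_kernel _ (kernelIsKernel q) }
  let b : E ⟶ kernel q := kernel.lift q φ (cokernel.condition _)
  have hb : b ≫ kernel.ι q = φ := kernel.lift_ι _ _ _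
  haveI : Epi b := (ShortComplex.exact_cokernel φ).epi_kernelLift
  have hw : f ≫ b = 0 := by
    rw [← cancel_mono (kernel.ι q), Category.assoc, hb, w, zero_comp]
  let S₁ : ShortComplex X.Modules := ShortComplex.mk f b hw
  have hS₁ : S₁.ShortExact :=
    { exact := by
        refine ShortComplex.exact_of_f_is_kernel _ ?_
        exact KernelFork.IsLimit.ofι' _ hw fun {W} k hk => KernelFork.IsLimit.lift' hex.fIsKernel k
          (show k ≫ φ = 0 by rw [← hb, ← Category.assoc, hk, zero_comp])
      mono_f := inferInstanceAs (Mono f)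
      epi_g := inferInstanceAs (Epi b) }
  have hB : Subsingleton (Coh.HH X (kernel q) 1) := by
    refine subsingleton_of_forall_eq 0 fun x => ?_
    obtain ⟨y, hy⟩ := ((exact_right A (S := S₁) hS₁ 1) x).1 (@Subsingleton.elim _ hK _ _)
    rw [← hy, @Subsingleton.elim _ hE y 0, map_zero]
  obtain ⟨e₁⟩ : Nonempty ((Coh.HH X (kernel q) 0 ⧸ LinearMap.range (hMap A b 0)) ≃ₗ[A] Coh.HH X K 1) :=
    nonempty_H1_equiv A (S := S₁) hS₁ hE
  let j := hMap A (kernel.ι q) 0
  have hj : Function.Injective j := injective_zero A (S := S₂) hS₂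
  have hq : Function.Surjective (hMap A q 0) := fun x =>
    ((exact_right A (S := S₂) hS₂ 0) x).1 (@Subsingleton.elim _ hB _ _)
  let I := LinearMap.range (hMap A φ 0)
  let IB := LinearMap.range (hMap A b 0)
  have hjI : I = IB.map j := by
    change LinearMap.range _ = (LinearMap.range _).map _
    rw [← LinearMap.range_comp, ← hMap_comp, hb]
  let u : (Coh.HH X (kernel q) 0 ⧸ IB) →ₗ[A] Coh.HH X D 0 ⧸ I :=
    IB.mapQ I j (by rw [hjI]; exact Submodule.le_comap_map _ _)
  let v : (Coh.HH X D 0 ⧸ I) →ₗ[A] Coh.HH X (cokernel φ) 0 :=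
    I.liftQ (hMap A q 0) (by
      rintro _ ⟨x, rfl⟩
      rw [LinearMap.mem_ker, ← LinearMap.comp_apply, ← hMap_comp, cokernel.condition]
      simp [hMap_apply, abMap_zero, Sheaf.H.map_apply, Abelian.Ext.mk₀_zero])
  have hu : Function.Injective u := (injective_iff_map_eq_zero u).2 fun z hz => by
    obtain ⟨x, rfl⟩ := Submodule.Quotient.mk_surjective _ z
    have h1 : (Submodule.Quotient.mk (j x) : Coh.HH X D 0 ⧸ I) = 0 := hz
    rw [Submodule.Quotient.mk_eq_zero, hjI] at h1
    obtain ⟨y, hy, hyx⟩ := h1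
    exact (Submodule.Quotient.mk_eq_zero _).2 (hj hyx ▸ hy)
  have hv : Function.Surjective v := fun x => by
    obtain ⟨y, rfl⟩ := hq x
    exact ⟨Submodule.Quotient.mk y, rfl⟩
  have huv : Function.Exact u v := by
    intro z
    obtain ⟨z, rfl⟩ := Submodule.Quotient.mk_surjective _ z
    constructor
    · intro hz
      obtain ⟨y, hy⟩ := ((exact_mid A (S := S₂) hS₂ 0) z).1 hz
      exact ⟨Submodule.Quotient.mk y, congrArg Submodule.Quotient.mk hy⟩
    · rintro ⟨y, hy⟩
      obtain ⟨y, rfl⟩ := Submodule.Quotient.mk_surjective _ y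
      rw [← hy]
      exact (exact_mid A (S := S₂) hS₂ 0).apply_apply_eq_zero y
  exact (Module.length_eq_add_of_exact u v hu hv huv).trans
    (congrArg (· + Module.length A (Coh.HH X (cokernel φ) 0)) e₁.length_eq)

include hg in
theorem map_range_push₀ {M N : X'.Modules} (φ : M ⟶ N) :
    (LinearMap.range (hMap A ((Scheme.Modules.pushforward g).map φ) 0)).map
      (push₀ A g hg N).toLinearMap = LinearMap.range (hMap A φ 0) := by
  apply le_antisymm
  · rintro _ ⟨_, ⟨x, rfl⟩, rfl⟩
    exact ⟨_, (push₀_natural A g hg φ x).symm⟩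
  · rintro _ ⟨x, rfl⟩
    refine ⟨_, ⟨(push₀ A g hg M).symm x, rfl⟩, ?_⟩
    refine (push₀_natural A g hg φ _).trans ?_
    rw [LinearEquiv.apply_symm_apply]

include hg in
/-- The exact sequence `0 → H¹(g_*O') → H¹(O') → H⁰(R¹g_*O') → 0` when `H²(g_*O') = 0`, in lengths. -/
theorem length_H1 [HasInjectiveResolutions X'.Modules] (M : X'.Modules)
    (h2 : Subsingleton (Coh.HH X ((Scheme.Modules.pushforward g).obj M) 2)) :
    Module.length A (Coh.HH X' M 1) =
      Module.length A (Coh.HH X ((Scheme.Modules.pushforward g).obj M) 1) +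
        Module.length A (Coh.HH X ((Coh.Rpush g 1).obj M) 0) := by
  haveI : PreservesFiniteLimits (Scheme.Modules.pushforward g) := by
    haveI := (Scheme.Modules.pullbackPushforwardAdjunction g).isRightAdjoint
    infer_instance
  let T : ShortComplex X'.Modules :=
    ShortComplex.mk (Injective.ι M) (cokernel.π (Injective.ι M)) (cokernel.condition _)
  have hT : T.ShortExact := { exact := ShortComplex.exact_cokernel _ }
  haveI : Injective T.X₂ := inferInstanceAs (Injective (Injective.under M))
  haveI : Mono T.f := hT.mono_f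
  obtain ⟨eR⟩ := CohFin.nonempty_rightDerived_one_iso_of_injective
    (F := Scheme.Modules.pushforward g) hT
  have hJ : Subsingleton (Coh.HH X' T.X₂ 1) := by
    haveI := isFlasque_toAb_of_injective T.X₂
    exact Groth.SiteCohomology.subsingleton_H_succ_of_flasque (X := X'.toTopCat) _ 0
  have hgJ := subsingleton_HH_push_injective g T.X₂ 0
  have hFT := hT.exact.map_of_mono_of_preservesKernel (Scheme.Modules.pushforward g) hT.mono_f
    inferInstance
  haveI : Mono ((Scheme.Modules.pushforward g).map T.f) := inferInstance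
  obtain ⟨e'⟩ := nonempty_H1_equiv A hT hJ
  have h4 := length_fourTerm A ((Scheme.Modules.pushforward g).map T.f)
    ((Scheme.Modules.pushforward g).map T.g) (by rw [← Functor.map_comp, T.zero, Functor.map_zero])
    hFT hgJ h2
  rw [← (hEquiv A eR 0).length_eq] at h4
  refine Eq.trans ?_ h4
  exact ((Submodule.Quotient.equiv _ _ (push₀ A g hg T.X₃) (map_range_push₀ A g hg T.g)).trans e').length_eq.symm

end Linear

section Support

/-- A module supported at closed points of a Noetherian scheme is globally generated. -/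
theorem isGloballyGenerated_of_closed_support [NoetherianSpace X] (M : X.Modules) [M.IsQuasicoherent]
    (h : ∀ x : X, Nontrivial (M.presheaf.stalk x) → IsClosed ({x} : Set X)) :
    Curv2.IsGloballyGenerated M := by
  haveI hN : NoetherianSpace X.toTopCat := ‹NoetherianSpace X›
  haveI hfl : TopCat.Sheaf.IsFlasque (X := X.toTopCat) (Coh.toAb M) := by
    haveI : QuasiSober X.toTopCat := inferInstanceAs (QuasiSober X)
    refine EulerDeg.isFlasque_of_closed_support (X := X.toTopCat) _ fun x hx => ?_
    refine @AddCommGrpCat.isZero_of_subsingleton _ ?_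
    change Subsingleton (M.presheaf.stalk x)
    by_contra hs
    exact hx (h x (not_subsingleton_iff_nontrivial.1 hs))
  refine Chow.isGloballyGenerated_of_locSpan (fun t : Γ(M, (⊤ : X.Opens)) => t) fun x => ?_
  obtain ⟨W, hW, hxW, -⟩ := exists_isAffineOpen_mem_and_subset (X := X) (x := x) (U := ⊤) trivial
  refine ⟨W, Set.univ, hxW, fun V hV y z hz => ?_, fun s _ => ?_⟩
  · obtain ⟨f, hfV, hzf⟩ := hW.exists_basicOpen_le (V := V) ⟨z, hz⟩ (hV hz)
    refine ⟨X.basicOpen f, hfV, X.basicOpen_le f, hzf, ?_⟩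
    obtain ⟨n, a, ha⟩ := Groth.QCohMod.exists_pow_smul_eq_res M hW f (res M hfV y)
    replace ha : res M (X.basicOpen_le f) a = resX X (X.basicOpen_le f) f ^ n • res M hfV y := ha
    obtain ⟨v, hv⟩ : IsUnit (resX X (X.basicOpen_le f) f ^ n) :=
      (RingedSpace.isUnit_res_basicOpen _ f).pow n
    have hy : res M hfV y = (↑v⁻¹ : Γ(X, X.basicOpen f)) • res M (X.basicOpen_le f) a := by
      rw [ha, ← mul_smul]
      change _ = ((↑v⁻¹ : Γ(X, X.basicOpen f)) * resX X (X.basicOpen_le f) f ^ n) • _
      rw [← hv, Units.inv_mul, one_smul]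
    rw [hy]
    exact Submodule.smul_mem _ _ (Submodule.subset_span ⟨a, trivial, rfl⟩)
  exact (AddCommGrpCat.epi_iff_surjective _).1 (hfl.epi (homOfLE le_top).op) s

end Support

end Groth.ResModR1
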