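import Groth.Prelude.Def_ClSub2
import Groth.Agent.ResModR1.FiveTerm
import Groth.Agent.CohFin.BaseLocal
import Groth.Agent.CohBase.AffineVanishing
import Groth.Agent.CohTwo.Glue
import Groth.Agent.ResolveSurf.ModificationVanish

/-!
# `R¹g_*O` of a morphism between modifications of a normal surface singularity
-/

set_option autoImplicit false
set_option backward.isDefEq.respectTransparency.types false
set_option linter.style.haveILetI false

universe u

open CategoryTheory CategoryTheory.Limits AlgebraicGeometry TopologicalSpace Opposite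

namespace Groth.ResModR1

variable {X' X : Scheme.{u}}

/-- The higher direct image vanishes off the exceptional set. -/
theorem subsingleton_stalk_of_notMem_exc (g : X' ⟶ X) [QuasiCompact g] [QuasiSeparated g]
    [HasInjectiveResolutions X'.Modules] (M : X'.Modules) [M.IsQuasicoherent] (n : ℕ) {x : X}
    (hx : x ∉ exc g) : Subsingleton (((Coh.Rpush g (n + 1)).obj M).presheaf.stalk x) := by
  obtain ⟨V, hxV, hV⟩ : ∃ V : X.Opens, x ∈ V ∧ IsIso (g ∣_ V) := not_not.1 hx
  let N := (Coh.Rpush g (n + 1)).obj M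
  have key : ∀ W : X.Opens, IsAffineOpen W → W ≤ V → Subsingleton Γ(N, W) := fun W hW hWV => by
    haveI := isIso_restrict_le g hWV
    haveI : IsAffine W.toScheme := hW
    have haff : IsAffineOpen (g ⁻¹ᵁ W) := IsAffine.of_isIso (g ∣_ W)
    obtain ⟨l⟩ := CohBase.exists_Rpush_linEquiv (M := M) (f := g) (p := n + 1) hW
    obtain ⟨e⟩ := CohBase.nonempty_equiv_HHon M (g ⁻¹ᵁ W) (n + 1)
    haveI h := CohBase.hVanish_of_isAffineOpen M haff n
    haveI : Subsingleton (Coh.HH (g ⁻¹ᵁ W : X'.Opens) (M.restrict (g ⁻¹ᵁ W).ι) (n + 1)) :=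
      @Equiv.subsingleton _ _ e.toEquiv h
    exact l.injective.subsingleton
  refine subsingleton_of_forall_eq 0 fun t => ?_
  obtain ⟨O, hxO, s, rfl⟩ := TopCat.Presheaf.germ_exist N.presheaf t
  obtain ⟨W, hW, hxW, hWOV⟩ := exists_isAffineOpen_mem_and_subset (U := O ⊓ V) (x := x) ⟨hxO, hxV⟩
  haveI := key W hW fun z hz => (hWOV hz).2
  have hWO : W ≤ O := fun z hz => (hWOV hz).1
  rw [← TopCat.Presheaf.germ_res_apply N.presheaf (homOfLE hWO) x hxW s]
  exact (congrArg (N.presheaf.germ W x hxW) (Subsingleton.elim (α := Γ(N, W)) _ 0)).trans (map_zero _)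

/-- Properties of `R¹g_*O` for a morphism of modifications of a normal surface singularity. -/
theorem R1_between_modifications (A : Type u) [CommRing A] [IsDomain A] [IsLocalRing A]
    [IsNoetherianRing A] (hdim : ringKrullDim A = 2)
    (X X' : Scheme.{u}) [X.Over (Spec (CommRingCat.of A))] [X'.Over (Spec (CommRingCat.of A))]
    [IsProper (X ↘ Spec (CommRingCat.of A))] [IsProper (X' ↘ Spec (CommRingCat.of A))]
    [IsIntegral X] [IsIntegral X']
    (hX : ∃ U : (Spec (CommRingCat.of A)).Opens, (U : Set (Spec (CommRingCat.of A))).Nonempty ∧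
      IsIso ((X ↘ Spec (CommRingCat.of A)) ∣_ U))
    (hX' : ∃ U : (Spec (CommRingCat.of A)).Opens, (U : Set (Spec (CommRingCat.of A))).Nonempty ∧
      IsIso ((X' ↘ Spec (CommRingCat.of A)) ∣_ U))
    (hXn : Pi1.IsNormalScheme X) (g : X' ⟶ X)
    (hg : g ≫ (X ↘ Spec (CommRingCat.of A)) = X' ↘ Spec (CommRingCat.of A))
    [HasInjectiveResolutions X'.Modules] :
    Curv2.IsGloballyGenerated ((Coh.Rpush g 1).obj (Coh.structureModule X')) ∧
      {x : X | Nontrivial (((Coh.Rpush g 1).obj (Coh.structureModule X')).presheaf.stalk x)}.Finite ∧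
      (∀ x : X, Nontrivial (((Coh.Rpush g 1).obj (Coh.structureModule X')).presheaf.stalk x) →
        IsClosed ({x} : Set X)) ∧
      Module.length A (Coh.HH X' (Coh.structureModule X') 1) =
        Module.length A (Coh.HH X (Coh.structureModule X) 1) +
          Module.length A (Coh.HH X ((Coh.Rpush g 1).obj (Coh.structureModule X')) 0) := by
  obtain ⟨U, hne, hU⟩ := hX
  obtain ⟨U', hne', hU'⟩ := hX'
  let p := X ↘ Spec (CommRingCat.of A)
  haveI : IsProper g := MorphismProperty.of_postcomp (W := @IsProper) (W' := @IsSeparated) g p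
    inferInstance (by rw [hg]; infer_instance)
  haveI : IsLocallyNoetherian X := LocallyOfFiniteType.isLocallyNoetherian p
  haveI : CompactSpace X := QuasiCompact.compactSpace_of_compactSpace p
  haveI : IsNoetherian X := ⟨⟩
  obtain ⟨V, hV, hVg⟩ := exists_isIso_restrict hg hne hU hne' hU'
  obtain ⟨hfin, hcl⟩ := exc_finite hdim hg hXn hne' hU' hV
  have hsupp : ∀ x : X, Nontrivial (((Coh.Rpush g 1).obj (Coh.structureModule X')).presheaf.stalk x) →
      x ∈ exc g := fun x hx => by
    by_contra h
    haveI := subsingleton_stalk_of_notMem_exc g (Coh.structureModule X') 0 h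
    exact not_nontrivial _ hx
  haveI : IsLocallyNoetherian X' := LocallyOfFiniteType.isLocallyNoetherian g
  have hO : Coh.IsCoh (Coh.structureModule X') :=
    (QCohMod.isCoh_iff _).mpr ⟨inferInstance, fun W _ => inferInstanceAs (Module.Finite Γ(X', W) Γ(X', W))⟩
  haveI := (CohFin.isCoh_rightDerived_of_proper CohFin.projFinite g 1 _ hO).1
  refine ⟨isGloballyGenerated_of_closed_support _ fun x hx => hcl x (hsupp x hx),
    hfin.subset hsupp, fun x hx => hcl x (hsupp x hx), ?_⟩
  haveI : IsIso (ClSub.unitToPush g) := CohTwo.isIso_of_app_bijective _ fun W => by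
    haveI := isIso_app hXn hV (g := g) W
    exact ConcreteCategory.bijective_of_isIso (g.app W)
  let e := EulerDeg.hEquiv A (asIso (ClSub.unitToPush g))
  haveI h2 : Subsingleton (Coh.HH X (Coh.structureModule X) 2) :=
    Limits.FibreVanishing.subsingleton_HH_of_dim_fiber_le (A := A) 1
      (ResolveSurf.ModVanish.fiber_dim_le_one p hdim.le U
        (ResolveSurf.ModVanish.preimage_nonempty p hne hU) hU) _ 2 one_lt_two
  rw [(e 1).length_eq]
  exact length_H1 A g hg _ ((e 2).toEquiv.symm.subsingleton)

end Groth.ResModR1
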